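import Groth.Agent.AmpleEmb.Closed

/-!
# Projective embeddings in which the locus of a section is the preimage of an affine open
-/

set_option autoImplicit false
set_option linter.style.haveILetI false
set_option linter.unusedSectionVars false
set_option backward.isDefEq.respectTransparency false
set_option backward.isDefEq.respectTransparency.types false

universe u

open CategoryTheory CategoryTheory.Limits Opposite TopologicalSpace AlgebraicGeometry
open Groth.Agent.QC (res resO res_res res_smul resO_resO app_res)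
open TMul (IsGen val homOf val_homOf)
open ProjMor (ev HasChartSections)

noncomputable section

namespace Groth.Agent.LefDepth

variable {K : Type u} [Field K] {X : Scheme.{u}}

/-- A closed immersion in a large projective space, the locus of `σ` being the preimage of an affine open. -/
theorem exists_closedImmersion_chart (q : X ⟶ Spec (CommRingCat.of K)) [IsProper q] {L : X.Modules}
    (hL : CohB1.IsAmple L) (σ : Coh.structureModule X ⟶ L) (k : ℕ) :
    ∃ (N d : ℕ) (r : X ⟶ CohB1.ProjSpace N K), k ≤ N ∧ 0 < d ∧ r ≫ CohB1.ProjSpace.toSpec N K = q ∧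
      IsClosedImmersion r ∧
      Nonempty ((Scheme.Modules.pullback r).obj (Twist.twistProjSpace N K 1) ≅ CohB1.tensorPow L d) ∧
      ∃ W : (CohB1.ProjSpace N K).Opens, IsAffineOpen W ∧ r ⁻¹ᵁ W = CohB1.genLocus L σ := by
  classical
  obtain ⟨m, hm, ι₀, _, s₀, hs₀⟩ := ProjMor.exists_hasChartSections q hL
  let M := CohB1.tensorPow L m
  let ι := ι₀ ⊕ (PUnit.{u + 1} ⊕ ULift.{u} (Fin k))
  let t : Γ(M, ⊤) := val (SecTwist.powHom σ m) ⊤
  let s : ι → Γ(M, ⊤) := Sum.elim s₀ (Sum.elim (fun _ => t) fun _ => 0)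
  have ht : CohB1.genLocus M (homOf t) = CohB1.genLocus L σ := by
    rw [show homOf t = SecTwist.powHom σ m from
      TMul.hom_ext_val ((val_homOf _ _).trans (Groth.Agent.QC.res_self _ _ _))]
    obtain ⟨m', rfl⟩ := Nat.exists_eq_succ_of_ne_zero hm.ne'
    exact TMul.genLocus_powHom hL.1 σ _
  have hs : ∀ x : X, ∃ (i : ι) (V : (Spec (CommRingCat.of K)).Opens)
      (h2 : CohB1.genLocus M (homOf (s i)) ≤ q ⁻¹ᵁ V), x ∈ CohB1.genLocus M (homOf (s i)) ∧
      IsAffineOpen V ∧ IsAffineOpen (CohB1.genLocus M (homOf (s i))) ∧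
      Subring.closure (Set.range (ev q V (CohB1.genLocus M (homOf (s i))) h2) ∪
        {c | ∃ j, c • res M (le_top : CohB1.genLocus M (homOf (s i)) ≤ ⊤) (s i) =
          res M (le_top : CohB1.genLocus M (homOf (s i)) ≤ ⊤) (s j)}) = ⊤ := fun x => by
    obtain ⟨i, V, h2, hx, hV, hU, hclo⟩ := hs₀ x
    refine ⟨Sum.inl i, V, h2, hx, hV, hU, ?_⟩
    rw [eq_top_iff, ← hclo]
    refine Subring.closure_mono (Set.union_subset_union_right _ ?_)
    rintro c ⟨j, hj⟩
    exact ⟨Sum.inl j, hj⟩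
  let e := Fintype.equivFin ι
  let n := Fintype.card ι
  have hcard : k ≤ n := by simp [n, ι]; omega
  let s' : Fin (n + 1) → ProjUP.Γm M := Fin.cons (0 : Γ(M, ⊤)) fun l => s (e.symm l)
  have hs' : ∀ i, ∃ j, s' j = s i := fun i => ⟨(e i).succ, by simp [s']⟩
  have hgen : ProjUP.GeneratedBy M s' := ProjMor.generatedBy_of_mem_genLocus s' fun x => by
    obtain ⟨i, V, h2, hx, -⟩ := hs x
    obtain ⟨j, hj⟩ := hs' i
    exact ⟨j, by rw [hj]; exact hx⟩
  obtain ⟨r, hr, τ, hτ⟩ := ProjMor.exists_projSpace q (TMul.isInvertible_tensorPow hL.1 m) s' hgen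
  have := ProjMor.isProper_toSpec n K
  have : IsProper (r ≫ CohB1.ProjSpace.toSpec n K) := by rw [hr]; infer_instance
  have : IsProper r := IsProper.of_comp r (CohB1.ProjSpace.toSpec n K)
  have hX : ∀ l, MvPolynomial.X l ∈ CohB1.polyGrading n K 1 := MvPolynomial.isHomogeneous_X K
  let D : Fin (n + 1) → (CohB1.ProjSpace n K).Opens := fun l =>
    Proj.basicOpen (CohB1.polyGrading n K) (MvPolynomial.X l)
  have hD : ∀ j, CohB1.genLocus M (homOf (s' j)) = r ⁻¹ᵁ D j := fun j => by
    rw [← hτ j, ProjMor.homOf_app, TMul.genLocus_comp]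
    exact ProjMor.genLocus_pull1 (ProjMor.genDegOne_projSpace n K) r (hX j)
  refine ⟨n, m, r, hcard, hm, hr, AmpleEmb.isClosedImmersion_of_charts r fun x => ?_, ⟨τ⟩, ?_⟩
  · obtain ⟨i, V, h2, hx, hV, hU, hclo⟩ := hs x
    obtain ⟨j, hji⟩ := hs' i
    have hU' : CohB1.genLocus M (homOf (s i)) = r ⁻¹ᵁ D j := by rw [← hji]; exact hD j
    refine ⟨j, hU'.le hx, hU' ▸ hU, ?_⟩
    have hVtop : V = ⊤ := by
      have : Subsingleton ↥(Spec (CommRingCat.of K)) := inferInstanceAs (Subsingleton (PrimeSpectrum K))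
      refine top_le_iff.1 fun z _ => ?_
      rw [Subsingleton.elim z (q.base x)]
      exact h2 hx
    subst hVtop
    suffices ∀ (U : X.Opens) (_ : U = CohB1.genLocus M (homOf (s i))) (h1 : U ≤ r ⁻¹ᵁ D j),
        Function.Surjective (ev r (D j) U h1) from this _ hU'.symm le_rfl
    rintro U rfl h1
    rw [← RingHom.range_eq_top, eq_top_iff, ← hclo, Subring.closure_le]
    rintro z (⟨a, rfl⟩ | ⟨l₀, hl₀⟩)
    · obtain ⟨c, rfl⟩ := (ConcreteCategory.bijective_of_isIso (Scheme.ΓSpecIso (CommRingCat.of K)).inv).2 a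
      refine ⟨GrT.deh (CohB1.polyGrading n K) (hX j) (algebraMap K _ c), ?_⟩
      refine (ProjMor.ev_deh_algebraMap (CohB1.polyGrading n K) r (show r ≫ ProjMor.base _ = q from hr) (hX j) h1 c).trans ?_
      rw [show ProjUP.toGlobal q c = q.appTop ((Scheme.ΓSpecIso (CommRingCat.of K)).inv c) from rfl]
      refine Eq.symm ?_
      rw [← ProjMor.ev_res q (le_refl ⊤) le_top]
      refine congrArg (resO X le_top) ?_
      exact congrArg (fun f => (CommRingCat.Hom.hom f) ((Scheme.ΓSpecIso (CommRingCat.of K)).inv c))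
        (Scheme.Hom.appLE_eq_app q)
    · obtain ⟨l, hl⟩ := hs' l₀
      refine ⟨GrT.deh (CohB1.polyGrading n K) (hX j) (MvPolynomial.X l), ?_⟩
      have e1 : ∀ a, τ.hom.app ⊤ (ProjMor.pull1 r (hX a)) = s' a := hτ
      let U₀ := CohB1.genLocus M (homOf (s i))
      have h3 := ((app_res τ.hom (le_top : U₀ ≤ ⊤) (ProjMor.pull1 r (hX l))).trans (congrArg (τ.hom.app U₀)
        (ProjMor.res_pull1 r (hX j) (hX l) h1))).trans (TMul.app_smul _ _ _)
      have h4 := h3.trans (congrArg (fun t : Γ(M, U₀) =>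
        ev r _ U₀ h1 (GrT.deh (CohB1.polyGrading n K) (hX j) (MvPolynomial.X l)) • t)
        (app_res τ.hom (le_top : U₀ ≤ ⊤) (ProjMor.pull1 r (hX j))).symm)
      rw [e1, e1, hji, hl] at h4
      have hg := TMul.isGen_genLocus (homOf (s i)) _ le_rfl
      refine hg.1 ?_
      change _ • res M le_rfl _ = z • res M le_rfl _
      rw [Groth.Agent.QC.res_self, val_homOf]
      exact h4.symm.trans hl₀.symm
  · obtain ⟨j, hj⟩ := hs' (Sum.inr (Sum.inl PUnit.unit))
    refine ⟨D j, ProjLib.isAffineOpen_basicOpen _ (hX j) one_pos, ?_⟩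
    rw [← hD j, hj]
    exact ht

end Groth.Agent.LefDepth
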