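import Groth.Agent.QC.Localisation
import Groth.Agent.W7Exist.QuotK

/-!
# Coherent modules supported on a closed subscheme are killed by a power of its ideal
-/

set_option autoImplicit false
set_option linter.style.haveILetI false
set_option linter.unusedSectionVars false
set_option backward.isDefEq.respectTransparency false
set_option backward.isDefEq.respectTransparency.types false

universe u

open CategoryTheory CategoryTheory.Limits AlgebraicGeometry TopologicalSpace Opposite
open Groth.Agent.QC (res resO res_res res_smul app_res section_eq_of_locally isLoc_of_isQCoh)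

noncomputable section

namespace Groth.Agent.LefDepth

variable {X : Scheme.{u}}

theorem notMem_support_of_mem_basicOpen {I : X.IdealSheafData} (U : X.affineOpens) {a : Γ(X, U.1)}
    (ha : a ∈ I.ideal U) {x : X} (hx : x ∈ X.basicOpen a) : x ∉ (I.support : Set X) := by
  intro hxI
  have h : x ∈ X.zeroLocus (U := U.1) (I.ideal U : Set Γ(X, U.1)) ∩ (U.1 : Set X) :=
    I.coe_support_inter U ▸ ⟨hxI, X.basicOpen_le a hx⟩
  exact (X.mem_zeroLocus_iff _ _).1 h.1 a ha hx

/-- A coherent module vanishing off the support of `I` is killed by a power of `I`. -/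
theorem exists_killed [IsNoetherian X] (I : X.IdealSheafData) {Q : X.Modules} (hQ : Coh.IsCoh Q)
    (h0 : ∀ x : X, x ∉ (I.support : Set X) → Subsingleton (Q.presheaf.stalk x)) :
    ∃ k : ℕ, ∀ m, k ≤ m → ClSub.KilledByIdeal (I ^ m) Q := by
  classical
  have key : ∀ V : X.affineOpens, ∃ k : ℕ, ∀ a ∈ I.ideal V ^ k, ∀ s : Γ(Q, V.1), a • s = 0 := fun V => by
    haveI : IsNoetherianRing Γ(X, V.1) := IsLocallyNoetherian.component_noetherian V
    haveI := hQ.1
    haveI := Groth.Agent.QC.finite_sections V.2 (hM := hQ.1) hQ.2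
    have hrad : I.ideal V ≤ (Module.annihilator Γ(X, V.1) Γ(Q, V.1)).radical := fun a ha => by
      obtain ⟨S, hS⟩ := Module.finite_def.1 (inferInstance : Module.Finite Γ(X, V.1) Γ(Q, V.1))
      have hz : ∀ s : Γ(Q, V.1), ∃ n : ℕ, a ^ n • s = 0 := fun s => by
        refine (isLoc_of_isQCoh V.2 (hM := hQ.1)).exists_pow_smul_eq_zero a s ?_
        refine TopCat.Presheaf.section_ext (F := ⟨Q.presheaf, Q.isSheaf⟩) _ _ _ fun x hx => ?_
        haveI := h0 x (notMem_support_of_mem_basicOpen V ha hx)
        exact @Subsingleton.elim ↑(Q.presheaf.stalk x) this _ _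
      choose n hn using hz
      refine ⟨∑ s ∈ S, n s, Module.mem_annihilator.2 fun s => ?_⟩
      have hs : s ∈ Submodule.span Γ(X, V.1) (S : Set Γ(Q, V.1)) := hS ▸ Submodule.mem_top
      induction hs using Submodule.span_induction with
      | mem s hs =>
        obtain ⟨c, hc⟩ := pow_dvd_pow a (Finset.single_le_sum (fun t _ => Nat.zero_le (n t)) hs)
        rw [hc, mul_comm, mul_smul, hn s, smul_zero]
      | zero => exact smul_zero _
      | add s t _ _ hs ht => rw [smul_add, hs, ht, add_zero]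
      | smul c s _ hs => rw [smul_comm, hs, smul_zero]
    obtain ⟨k, hk⟩ := Ideal.exists_pow_le_of_le_radical_of_fg hrad (IsNoetherian.noetherian _)
    exact ⟨k, fun a ha s => Module.mem_annihilator.1 (hk ha) s⟩
  choose k hk using key
  obtain ⟨T, hT⟩ := isCompact_univ.elim_finite_subcover (fun V : X.affineOpens => (V.1 : Set X))
    (fun V => V.1.2) (fun x _ => by
      obtain ⟨U, hU, hxU, -⟩ := exists_isAffineOpen_mem_and_subset (x := x) (U := (⊤ : X.Opens)) trivial
      exact Set.mem_iUnion.2 ⟨⟨U, hU⟩, hxU⟩)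
  refine ⟨∑ V ∈ T, k V, fun m hm U c hc s => ?_⟩
  refine section_eq_of_locally fun x hx => ?_
  obtain ⟨V, hV, hxV⟩ : ∃ V ∈ T, x ∈ V.1 := by simpa using hT (Set.mem_univ x)
  obtain ⟨f, g, hfg, hxf⟩ := exists_basicOpen_le_affine_inter V.2 U.2 x ⟨hxV, hx⟩
  have hWU : X.basicOpen f ≤ U.1 := hfg.trans_le (X.basicOpen_le g)
  refine ⟨X.basicOpen f, hWU, hxf, ?_⟩
  rw [map_zero, res_smul]
  have hc' : resO X hWU c ∈ (I.ideal V ^ m).map (resO X (X.basicOpen_le f)) := by
    have h1 : resO X hWU c ∈ (I ^ m).ideal (X.affineBasicOpen f) := by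
      rw [← (I ^ m).map_ideal (U := X.affineBasicOpen f) (V := U) hWU]
      exact Ideal.mem_map_of_mem _ hc
    rw [← (I ^ m).map_ideal_basicOpen V f, Scheme.IdealSheafData.ideal_pow, Pi.pow_apply] at h1
    exact h1
  obtain ⟨j, w₀, hw₀⟩ := (isLoc_of_isQCoh V.2 (hM := hQ.1)).exists_extend f (res Q hWU s)
  have hu : IsUnit (resO X (X.basicOpen_le f) f ^ j) :=
    (RingedSpace.isUnit_res_basicOpen X.toRingedSpace f).pow j
  have hle : I.ideal V ^ m ≤ I.ideal V ^ k V :=
    Ideal.pow_le_pow_right ((Finset.single_le_sum (fun W _ => Nat.zero_le (k W)) hV).trans hm)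
  refine hu.smul_left_cancel.1 ?_
  rw [smul_zero]
  refine Submodule.span_induction
    (p := fun a _ => resO X (X.basicOpen_le f) f ^ j • a • res Q hWU s = 0) ?_ ?_ ?_ ?_ hc'
  · rintro _ ⟨a, ha, rfl⟩
    rw [smul_comm, ← hw₀, ← res_smul, hk V a (hle ha), map_zero]
  · rw [zero_smul, smul_zero]
  · intro a b _ _ ha hb
    rw [add_smul, smul_add, ha, hb, add_zero]
  · intro b a _ ha
    rw [smul_eq_mul, mul_smul, smul_comm, ha, smul_zero]

end Groth.Agent.LefDepth
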