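import Groth.Agent.LefDepth.Main
import Groth.Agent.CohFinite.Sequence
import Groth.Agent.FormAlg.Thicken
import Groth.Agent.SupportLib.Unit

/-!
# Comparison with the formal completion below the bound on depth plus dimension
-/

set_option autoImplicit false
set_option linter.style.haveILetI false
set_option linter.unusedSectionVars false
set_option backward.isDefEq.respectTransparency false
set_option backward.isDefEq.respectTransparency.types false

universe u

open CategoryTheory CategoryTheory.Limits AlgebraicGeometry TopologicalSpace Opposite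

noncomputable section

namespace Groth.Agent.LefDepth

section

variable {X : Scheme.{u}}

/-- The units of pullback and pushforward along a triangle. -/
theorem unit_triangle {Z Z' : Scheme.{u}} (a : Z ⟶ Z') (b : Z' ⟶ X) (c : Z ⟶ X) (w : a ≫ b = c)
    (M : X.Modules) :
    (Scheme.Modules.pullbackPushforwardAdjunction b).unit.app M ≫
      (Scheme.Modules.pushforward b).map
        ((Scheme.Modules.pullbackPushforwardAdjunction a).unit.app ((Scheme.Modules.pullback b).obj M)) ≫
      (Scheme.Modules.pushforwardComp a b).hom.app _ ≫ (Scheme.Modules.pushforwardCongr w).hom.app _ ≫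
      (Scheme.Modules.pushforward c).map
        ((Scheme.Modules.pullbackComp a b).hom.app M ≫ (Scheme.Modules.pullbackCongr w).hom.app M) =
      (Scheme.Modules.pullbackPushforwardAdjunction c).unit.app M := by
  subst w
  let adj₁ := (Scheme.Modules.pullbackPushforwardAdjunction b).comp (Scheme.Modules.pullbackPushforwardAdjunction a)
  let adj₂ := Scheme.Modules.pullbackPushforwardAdjunction (a ≫ b)
  have h := unit_conjugateEquiv adj₁ adj₂ (Scheme.Modules.pullbackComp a b).inv M
  rw [Scheme.Modules.conjugateEquiv_pullbackComp_inv] at h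
  have hc : ∀ N : Z.Modules, (Scheme.Modules.pushforwardCongr (rfl : a ≫ b = a ≫ b)).hom.app N = 𝟙 _ := fun N =>
    Scheme.Modules.hom_ext _ _ fun V => by
      rw [Scheme.Modules.pushforwardCongr_hom_app_app]
      exact (N.presheaf.map_id _)
  have hp : (Scheme.Modules.pullbackCongr (rfl : a ≫ b = a ≫ b)).hom.app M = 𝟙 _ := by
    simp [Scheme.Modules.pullbackCongr]
  have key : adj₁.unit.app M ≫ (Scheme.Modules.pushforwardComp a b).hom.app _ ≫
      (Scheme.Modules.pushforward (a ≫ b)).map ((Scheme.Modules.pullbackComp a b).hom.app M) = adj₂.unit.app M := by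
    refine ((Category.assoc _ _ _).symm.trans (congrArg (· ≫ _) h)).trans ((Category.assoc _ _ _).trans ?_)
    refine (congrArg (adj₂.unit.app M ≫ ·) (((Scheme.Modules.pushforward (a ≫ b)).map_comp _ _).symm.trans
      ((congrArg _ (Iso.inv_hom_id_app (Scheme.Modules.pullbackComp a b) M)).trans
        ((Scheme.Modules.pushforward (a ≫ b)).map_id _)))).trans ?_
    exact Category.comp_id _
  refine Eq.trans ?_ key
  rw [hc, hp, Category.comp_id, Category.id_comp, Adjunction.comp_unit_app, Category.assoc]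
  rfl

/-- `M ⟶ j_* j^* M` is the quotient by a power of the ideal. -/
theorem exists_iso_quotK (I : X.IdealSheafData) (m : ℕ) {M : X.Modules} (hM : Coh.IsQCoh M) :
    ∃ v : W7Exist.quotK I m hM ≅ (Scheme.Modules.pushforward (I ^ m).subschemeι).obj
        ((Scheme.Modules.pullback (I ^ m).subschemeι).obj M),
      W7Exist.quotKπ I m hM ≫ v.hom =
        (Scheme.Modules.pullbackPushforwardAdjunction (I ^ m).subschemeι).unit.app M := by
  let j := (I ^ m).subschemeι
  let adj := Scheme.Modules.pullbackPushforwardAdjunction j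
  have hkill : ∀ G, IsIso (adj.unit.app G) → ClSub.KilledByIdeal (I ^ m) G := fun G hG U a ha s =>
    (SupportLib.isIso_unit_iff j G).1 hG U a (by rw [Scheme.IdealSheafData.ker_subschemeι]; exact ha) s
  haveI : IsIso (adj.unit.app (W7Exist.quotK I m hM)) := (SupportLib.isIso_unit_iff j _).2 fun U a ha s =>
    W7Exist.killedBy_quotK I m hM U a (by rwa [Scheme.IdealSheafData.ker_subschemeι] at ha) s
  haveI := K0Hom.isIso_counit_pre j ((Scheme.Modules.pullback j).obj M)
  have hpush : IsIso (adj.unit.app ((Scheme.Modules.pushforward j).obj ((Scheme.Modules.pullback j).obj M))) :=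
    IsIso.of_isIso_fac_right (adj.right_triangle_components _)
  obtain ⟨ψ, hψ⟩ := W7Exist.exists_desc_quotK I m hM (adj.unit.app M) (hkill _ hpush)
  let g := (Scheme.Modules.pushforward j).map ((Scheme.Modules.pullback j).map (W7Exist.quotKπ I m hM)) ≫
    inv (adj.unit.app (W7Exist.quotK I m hM))
  have hg : adj.unit.app M ≫ g = W7Exist.quotKπ I m hM := by
    rw [← Category.assoc, IsIso.comp_inv_eq]
    exact (adj.unit.naturality _).symm
  haveI := (FormAlg.pushFF j).full
  refine ⟨⟨ψ, g, ?_, ?_⟩, hψ⟩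
  · rw [← cancel_epi (W7Exist.quotKπ I m hM), ← Category.assoc, hψ, hg, Category.comp_id]
  · obtain ⟨φ, hφ⟩ := (Scheme.Modules.pushforward j).map_surjective (g ≫ ψ)
    have hh : adj.unit.app M ≫ g ≫ ψ = adj.unit.app M := by rw [← Category.assoc, hg, hψ]
    rw [← hφ] at hh ⊢
    rw [show φ = 𝟙 _ from (adj.homEquiv _ _).injective (by
      rw [Adjunction.homEquiv_unit, Adjunction.homEquiv_unit, hh, CategoryTheory.Functor.map_id]; exact (Category.comp_id _).symm),
      CategoryTheory.Functor.map_id]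

/-- The kernel sequence. -/
def seqK (I : X.IdealSheafData) (m : ℕ) {M : X.Modules} (hM : Coh.IsQCoh M) : ShortComplex X.Modules :=
  ShortComplex.mk (kernel.ι (W7Exist.quotKπ I m hM)) (W7Exist.quotKπ I m hM) (kernel.condition _)

theorem shortExact_seqK (I : X.IdealSheafData) (m : ℕ) {M : X.Modules} (hM : Coh.IsQCoh M) :
    (seqK I m hM).ShortExact :=
  { exact := ShortComplex.exact_of_f_is_kernel _ (kernelIsKernel _)
    mono_f := inferInstanceAs (Mono (kernel.ι _))
    epi_g := inferInstanceAs (Epi (W7Exist.quotKπ I m hM)) }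

theorem killedBy_quotK_of_le (I : X.IdealSheafData) {a b : ℕ} (h : a ≤ b) {M : X.Modules} (hM : Coh.IsQCoh M) :
    ClSub.KilledByIdeal (I ^ b) (W7Exist.quotK I a hM) := fun U c hc s => by
  refine W7Exist.killedBy_quotK I a hM U c ?_ s
  rw [Scheme.IdealSheafData.ideal_pow, Pi.pow_apply] at hc ⊢
  exact Ideal.pow_le_pow_right h hc

end

variable (k : Type u) [Field k] {X : Scheme.{u}} [X.Over (Spec (CommRingCat.of k))]
  [IsProper (X ↘ Spec (CommRingCat.of k))] {L : X.Modules} (hL : CohB1.IsAmple L)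
  (σ : Coh.structureModule X ⟶ L) {F : X.Modules} (hF : Coh.IsCoh F) (n : ℕ)
  (hd : ∀ x : X, x ∉ ((PicF2.zeroScheme L σ).support : Set X) → (n : WithBot ℕ∞) <
    (LocCoh.depth (X.presheaf.stalk x) (F.presheaf.stalk x) : WithBot ℕ∞) +
      topologicalKrullDim ↥(closure ({x} : Set X)))
  (Q : ℕ → X.Modules) (q : ∀ m, F ⟶ Q m) (v : ∀ m, W7Exist.quotK (PicF2.zeroScheme L σ) (m + 1) hF.1 ≅ Q m)
  (hv : ∀ m, W7Exist.quotKπ (PicF2.zeroScheme L σ) (m + 1) hF.1 ≫ (v m).hom = q m)

set_option quotPrecheck false in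
local notation:max "Hm"  f:max => Sheaf.H.map ((SheafOfModules.toSheaf X.ringCatSheaf).map f)

include hv in
theorem π_eq_zero_of_q (m i : ℕ) (x : Coh.HH X F i) (h : Hm (q m) i x = 0) :
    Hm (W7Exist.quotKπ (PicF2.zeroScheme L σ) (m + 1) hF.1) i x = 0 := by
  rw [show W7Exist.quotKπ (PicF2.zeroScheme L σ) (m + 1) hF.1 = q m ≫ (v m).inv by rw [← hv, Category.assoc,
    Iso.hom_inv_id, Category.comp_id], hh_map_comp, h]
  exact map_zero _

include k hL hd in
theorem exists_injective (i : ℕ) (hi : i ≤ n) :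
    ∃ K₀, ∀ K, K₀ ≤ K → ∀ x : Coh.HH X F i,
      Hm (W7Exist.quotKπ (PicF2.zeroScheme L σ) K hF.1) i x = 0 → x = 0 := by
  obtain ⟨K₀, -, c, hz⟩ := exists_kernel_zero k hL σ F hF n hd i hi 0
  refine ⟨K₀, fun K hK x hx => ?_⟩
  obtain ⟨ψ, hψ⟩ := W7Exist.exists_desc_quotK (PicF2.zeroScheme L σ) K hF.1
    (W7Exist.quotKπ (PicF2.zeroScheme L σ) K₀ hF.1) (killedBy_quotK_of_le _ hK hF.1)
  have hx₀ : Hm (W7Exist.quotKπ (PicF2.zeroScheme L σ) K₀ hF.1) i x = 0 := by
    rw [← hψ, hh_map_comp, hx]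
    exact map_zero _
  obtain ⟨z, hz'⟩ := (CohFinite.map_g_eq_zero_iff (CohFinite.shortExact_toAb (shortExact_seqK _ K₀ hF.1)) i x).1 hx₀
  rw [← hz']
  show Hm (kernel.ι (W7Exist.quotKπ (PicF2.zeroScheme L σ) K₀ hF.1)) i z = 0
  rw [← kernel.lift_ι (W7Exist.quotKπ (PicF2.zeroScheme L σ) 0 hF.1) _ c, hh_map_comp]
  exact (congrArg _ (hz z)).trans (map_zero _)

include k hL hd hv in
theorem eq_zero_of_formal (i : ℕ) (hi : i ≤ n) (x : Coh.HH X F i) (h : ∀ m, Hm (q m) i x = 0) : x = 0 := by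
  obtain ⟨K₀, hK₀⟩ := exists_injective k hL σ hF n hd i hi
  exact hK₀ (K₀ + 1) (Nat.le_succ _) x (π_eq_zero_of_q σ hF Q q v hv K₀ i x (h K₀))

variable (t : ∀ m, Q (m + 1) ⟶ Q m) (ht : ∀ m, q (m + 1) ≫ t m = q m)

include k hL hd hv ht in
theorem exists_of_formal (i : ℕ) (hi : i + 1 ≤ n) (y : ∀ m, Coh.HH X (Q m) i)
    (hy : ∀ m, Hm (t m) i (y (m + 1)) = y m) : ∃ x : Coh.HH X F i, ∀ m, Hm (q m) i x = y m := by
  haveI : ∀ m, Epi (q m) := fun m => by rw [← hv m]; exact epi_comp _ _
  let I := PicF2.zeroScheme L σ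
  have htrans : ∀ m m', m ≤ m' → ∀ θ : Q m' ⟶ Q m, q m' ≫ θ = q m → Hm θ i (y m') = y m := by
    intro m m' hm
    induction hm with
    | refl =>
      intro θ hθ
      rw [show θ = 𝟙 _ from (cancel_epi (q m)).1 (by rw [hθ, Category.comp_id])]
      erw [CategoryTheory.Functor.map_id]
      exact Sheaf.H.map_id_apply _
    | @step m' hm ih =>
      intro θ hθ
      obtain ⟨ψ, hψ⟩ := W7Exist.exists_desc_quotK I (m' + 1) hF.1 (W7Exist.quotKπ I (m + 1) hF.1)
        (killedBy_quotK_of_le _ (Nat.succ_le_succ hm) hF.1)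
      have h1 : q m' ≫ (v m').inv ≫ ψ ≫ (v m).hom = q m := by
        rw [← hv m', Category.assoc, Iso.hom_inv_id_assoc, ← Category.assoc, hψ, hv]
      rw [show θ = t m' ≫ (v m').inv ≫ ψ ≫ (v m).hom from (cancel_epi (q (m' + 1))).1 (by
        rw [← Category.assoc, ht, h1]; exact hθ), hh_map_comp, hy m']
      exact ih _ h1
  have hlift : ∀ m, ∃ x : Coh.HH X F i, Hm (q m) i x = y m := by
    intro m
    obtain ⟨K, hK, c, hz⟩ := exists_kernel_zero k hL σ F hF n hd (i + 1) hi (m + 1)
    obtain ⟨K', rfl⟩ : ∃ K', K = K' + 1 := ⟨K - 1, by omega⟩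
    obtain ⟨ψ, hψ⟩ := W7Exist.exists_desc_quotK I (K' + 1) hF.1 (W7Exist.quotKπ I (m + 1) hF.1)
      (killedBy_quotK_of_le _ hK hF.1)
    let φ : seqK I (K' + 1) hF.1 ⟶ seqK I (m + 1) hF.1 :=
      { τ₁ := kernel.lift _ _ c
        τ₂ := 𝟙 _
        τ₃ := ψ
        comm₁₂ := by simp [seqK]; rfl
        comm₂₃ := by simp [seqK, hψ] }
    let y' := fun m => Hm (v m).inv i (y m)
    have hy' : Hm ψ i (y' K') = y' m := by
      have h1 : q K' ≫ (v K').inv ≫ ψ ≫ (v m).hom = q m := by
        rw [← hv K', Category.assoc, Iso.hom_inv_id_assoc, ← Category.assoc, hψ, hv]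
      show Hm ψ i (Hm (v K').inv i (y K')) = Hm (v m).inv i (y m)
      rw [← htrans m K' (by omega) _ h1, ← hh_map_comp, ← hh_map_comp]
      simp only [Category.assoc, Iso.hom_inv_id, Category.comp_id]
      rfl
    have hδ : CohFinite.δH (CohFinite.shortExact_toAb (shortExact_seqK I (m + 1) hF.1)) i (y' m) = 0 := by
      let S := (seqK I (K' + 1) hF.1).map (CohQC.toAbF X)
      let T := (seqK I (m + 1) hF.1).map (CohQC.toAbF X)
      let Φ : S ⟶ T := (CohQC.toAbF X).mapShortComplex.map φ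
      have hS : S.ShortExact := CohFinite.shortExact_toAb (shortExact_seqK I (K' + 1) hF.1)
      have hT : T.ShortExact := CohFinite.shortExact_toAb (shortExact_seqK I (m + 1) hF.1)
      have h3 : Φ.τ₃ = (SheafOfModules.toSheaf X.ringCatSheaf).map ψ := rfl
      have h1 : Φ.τ₁ = (SheafOfModules.toSheaf X.ringCatSheaf).map (kernel.lift _ _ c) := rfl
      have key := CohFinite.δH_natural hS hT Φ i
      rw [h3, h1] at key
      rw [← hy']
      exact (key (y' K')).trans (hz _)
    obtain ⟨x, hx⟩ := (CohFinite.δH_eq_zero_iff (CohFinite.shortExact_toAb (shortExact_seqK I (m + 1) hF.1)) i _).1 hδ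
    refine ⟨x, ?_⟩
    rw [← hv m, hh_map_comp]
    refine (congrArg _ hx).trans ?_
    show Hm (v m).hom i (Hm (v m).inv i (y m)) = y m
    rw [← hh_map_comp, Iso.inv_hom_id]
    erw [CategoryTheory.Functor.map_id]
    exact Sheaf.H.map_id_apply _
  choose x hx using hlift
  obtain ⟨K₀, hK₀⟩ := exists_injective k hL σ hF n hd i (by omega)
  have hcomp : ∀ m m', m ≤ m' → Hm (q m) i (x m') = y m := by
    intro m m' hm
    obtain ⟨ψ, hψ⟩ := W7Exist.exists_desc_quotK I (m' + 1) hF.1 (W7Exist.quotKπ I (m + 1) hF.1)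
      (killedBy_quotK_of_le _ (Nat.succ_le_succ hm) hF.1)
    have h1 : q m' ≫ (v m').inv ≫ ψ ≫ (v m).hom = q m := by
      rw [← hv m', Category.assoc, Iso.hom_inv_id_assoc, ← Category.assoc, hψ, hv]
    rw [← h1, hh_map_comp, hx m']
    exact htrans m m' hm _ h1
  refine ⟨x K₀, fun m => ?_⟩
  have heq : x (max m K₀) = x K₀ := sub_eq_zero.1 (hK₀ (K₀ + 1) (Nat.le_succ _) _
    (π_eq_zero_of_q σ hF Q q v hv K₀ i _ (by rw [map_sub, hcomp K₀ _ (le_max_right _ _), hx K₀, sub_self])))
  rw [← heq]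
  exact hcomp m _ (le_max_left _ _)

end Groth.Agent.LefDepth
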