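import Groth.Agent.LefDepth.Kill
import Groth.Agent.NegTwist.Basic
import Groth.Agent.CohFinite.Tensor
import Groth.Agent.Devissage.Support
import Groth.Agent.CurveRR.GlobGen
import Groth.Agent.W7Hull.Avoid

/-!
# Multiplication by powers of a map from an invertible module to the structure sheaf
-/

set_option autoImplicit false
set_option linter.style.haveILetI false
set_option linter.unusedSectionVars false
set_option backward.isDefEq.respectTransparency false
set_option backward.isDefEq.respectTransparency.types false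

universe u

open CategoryTheory CategoryTheory.Limits AlgebraicGeometry TopologicalSpace Opposite
open Groth.Agent.QC (res resO res_res res_self res_smul resO_resO app_res section_eq_of_locally)
open Groth.Agent.NegTwist (IsLocusOf)
open Groth.Agent.W7Hull (st st_germ)
open TMul (IsGen)

noncomputable section

namespace Groth.Agent.LefDepth

variable {X : Scheme.{u}} {M : X.Modules}

/-- Powers of a section. -/
def pw {D : X.Opens} (g : Γ(M, D)) : (k : ℕ) → Γ(CohB1.tensorPow M k, D)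
  | 0 => show Γ(Coh.structureModule X, D) from (1 : Γ(X, D))
  | k + 1 => TMul.tm (pw g k) g

theorem isGen_pw {D : X.Opens} {g : Γ(M, D)} (hg : IsGen g) : ∀ k, IsGen (pw g k)
  | 0 => TMul.isGen_one D
  | k + 1 => TMul.isGen_tm (isGen_pw hg k) hg

/-- The powers of `τ : M ⟶ O`. -/
def powMul (τ : M ⟶ Coh.structureModule X) : (k : ℕ) → (CohB1.tensorPow M k ⟶ Coh.structureModule X)
  | 0 => 𝟙 _
  | k + 1 => CohFinite.tmap (powMul τ k) M ≫ (TMul.leftUnitIso M).hom ≫ τ

theorem powMul_pw (τ : M ⟶ Coh.structureModule X) {D : X.Opens} (g : Γ(M, D)) :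
    ∀ k, (show Γ(X, D) from (powMul τ k).app D (pw g k)) = (show Γ(X, D) from τ.app D g) ^ k
  | 0 => (pow_zero _).symm
  | k + 1 => by
    show (show Γ(X, D) from τ.app D ((TMul.leftUnitIso M).hom.app D
      ((CohFinite.tmap (powMul τ k) M).app D (TMul.tm (pw g k) g)))) = _
    rw [CohFinite.tmap_tm]
    refine Eq.trans (congrArg (fun t => (show Γ(X, D) from τ.app D t))
      (CurveRR.leftUnitIso_tm M (show Γ(X, D) from (powMul τ k).app D (pw g k)) g)) ?_
    refine (Scheme.Modules.Hom.app_smul τ _ g).trans ?_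
    exact (congrArg (· * (show Γ(X, D) from τ.app D g)) (powMul_pw τ g k)).trans (pow_succ _ k).symm

/-- `H ⊗ M^k ⟶ H`. -/
def mulPow (H : X.Modules) (τ : M ⟶ Coh.structureModule X) (k : ℕ) :
    CohB1.tensorMod H (CohB1.tensorPow M k) ⟶ H :=
  ((DCoh.tensorBi (X := X)).obj H).map (powMul τ k) ≫ (SecTwist.unitorR H).hom

theorem mulPow_tm (H : X.Modules) (τ : M ⟶ Coh.structureModule X) (k : ℕ) {D : X.Opens} (g : Γ(M, D))
    (a : Γ(H, D)) :
    (mulPow H τ k).app D (TMul.tm a (pw g k)) = (show Γ(X, D) from τ.app D g) ^ k • a := by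
  generalize hb : pw g k = b
  have h1 := W7Hull.map_tm (U := D) H (powMul τ k) a b
  have h2 := ResDesc.unitorR_tm H a (show Γ(X, D) from (powMul τ k).app D b)
  have h3 : (show Γ(X, D) from (powMul τ k).app D b) = (show Γ(X, D) from τ.app D g) ^ k := hb ▸ powMul_pw τ g k
  rw [← h3, ← h2]
  exact congrArg ((SecTwist.unitorR H).hom.app D) h1

variable {U : X.Opens} {τ : M ⟶ Coh.structureModule X}

theorem exists_form (hM : PicF.IsInvertible M) (H : X.Modules) (k : ℕ) {W : X.Opens}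
    (t : Γ(CohB1.tensorMod H (CohB1.tensorPow M k), W)) {x : X} (hx : x ∈ W) :
    ∃ (V : X.Opens) (hV : V ≤ W) (g : Γ(M, V)) (a : Γ(H, V)), x ∈ V ∧ IsGen g ∧
      res (CohB1.tensorMod H (CohB1.tensorPow M k)) hV t = TMul.tm a (pw g k) := by
  obtain ⟨V, hV, g, hxV, hg⟩ := CohFinite.exists_gen_le hM hx
  obtain ⟨a, ha⟩ := (TMul.tm_bijective (M := H) (isGen_pw hg k) V le_rfl).2 (res _ hV t)
  refine ⟨V, hV, g, a, hxV, hg, ?_⟩
  simpa only [res_self] using ha.symm

/-- Multiplication by powers is injective on sections of a module without sections off the locus. -/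
theorem mono_mulPow (hM : PicF.IsInvertible M) (hτ : IsLocusOf τ U) (H : X.Modules)
    (hH : ∀ (W : X.Opens) (a : Γ(H, W)), (∀ x (hx : x ∈ W), x ∈ U → H.presheaf.germ W x hx a = 0) → a = 0)
    (k : ℕ) : Mono (mulPow H τ k) := by
  refine (Groth.Agent.QC.mono_iff_app_injective _).2 fun W => ?_
  rw [injective_iff_map_eq_zero]
  intro t ht
  refine section_eq_of_locally fun x hx => ?_
  obtain ⟨V, hV, g, a, hxV, hg, ha⟩ := exists_form hM H k t hx
  refine ⟨V, hV, hxV, ?_⟩
  rw [map_zero, ha]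
  suffices a = 0 by rw [this, TMul.zero_tm]
  refine hH V a fun y hy hyU => ?_
  have h1 : (show Γ(X, V) from τ.app V g) ^ k • a = 0 := by
    rw [← mulPow_tm, ← ha, ← app_res, ht, map_zero]
  have h2 := congrArg (H.presheaf.germ V y hy) h1
  rw [map_zero, Mero.germ_smul H V y hy] at h2
  exact (((hτ V g hg y hy).1 hyU).pow k).smul_eq_zero.1 (by rw [← map_pow]; exact h2)

/-- Multiplication by powers is bijective on the locus. -/
theorem surjective_st_mulPow (hM : PicF.IsInvertible M) (hτ : IsLocusOf τ U) (H : X.Modules) (k : ℕ)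
    {x : X} (hx : x ∈ U) : Function.Surjective (st (mulPow H τ k) x) := fun z => by
  obtain ⟨W, hxW, s, rfl⟩ := TopCat.Presheaf.exists_germ_eq H.presheaf z
  obtain ⟨V, hV, g, hxV, hg⟩ := CohFinite.exists_gen_le hM hxW
  obtain ⟨c, hc⟩ := ((hτ V g hg x hxV).1 hx).pow k
  refine ⟨(↑c⁻¹ : X.presheaf.stalk x) •
    (CohB1.tensorMod H (CohB1.tensorPow M k)).presheaf.germ V x hxV (TMul.tm (res H hV s) (pw g k)), ?_⟩
  rw [map_smul, st_germ, mulPow_tm, Mero.germ_smul H V x hxV, ← smul_assoc, map_pow, ← hc, smul_eq_mul,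
    Units.inv_mul, one_smul]
  exact TopCat.Presheaf.germ_res_apply H.presheaf _ _ _ _

theorem mem_radical_of_forall_notMem {I : X.IdealSheafData} (V : X.affineOpens) (c : Γ(X, V.1))
    (hc : ∀ x (hx : x ∈ V.1), x ∈ (I.support : Set X) → ¬ IsUnit (X.presheaf.germ V.1 x hx c)) :
    c ∈ (I.ideal V).radical := by
  rw [Ideal.radical_eq_sInf, Submodule.mem_sInf]
  rintro p ⟨hle, hp⟩
  by_contra hcp
  let z : PrimeSpectrum Γ(X, V.1) := ⟨p, hp⟩
  have hzV : V.2.fromSpec z ∈ V.1 := by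
    rw [← SetLike.mem_coe, ← V.2.range_fromSpec]; exact ⟨z, rfl⟩
  have h1 : V.2.fromSpec z ∈ X.zeroLocus (U := V.1) (I.ideal V : Set Γ(X, V.1)) := by
    have : z ∈ V.2.fromSpec ⁻¹' X.zeroLocus (U := V.1) (I.ideal V : Set Γ(X, V.1)) := by
      rw [V.2.fromSpec_preimage_zeroLocus]; exact hle
    exact this
  have h2 : V.2.fromSpec z ∈ (I.support : Set X) := by
    have h := I.coe_support_inter V
    exact ((Set.ext_iff.1 h _).2 ⟨h1, hzV⟩).1
  refine hc _ hzV h2 ((X.mem_basicOpen c _ hzV).1 ?_)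
  have : z ∈ V.2.fromSpec ⁻¹ᵁ X.basicOpen c := by
    rw [V.2.fromSpec_preimage_basicOpen c]; exact hcp
  exact this

/-- High powers kill the quotient by a power of the ideal of the complement of the locus. -/
theorem exists_mulPow_quotK [IsNoetherian X] (hM : PicF.IsInvertible M) (hτ : IsLocusOf τ U)
    (I : X.IdealSheafData) (hI : ∀ x ∈ (I.support : Set X), x ∉ U) {H F : X.Modules} (hF : Coh.IsQCoh F)
    (h : H ⟶ F) (k₀ : ℕ) :
    ∃ n, ∀ k, n ≤ k → (mulPow H τ k ≫ h) ≫ W7Exist.quotKπ I k₀ hF = 0 := by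
  classical
  have key : ∀ x : X, ∃ (V : X.affineOpens) (g : Γ(M, V.1)) (n : ℕ), x ∈ V.1 ∧ IsGen g ∧
      (show Γ(X, V.1) from τ.app V.1 g) ^ n ∈ (I ^ k₀).ideal V := fun x => by
    obtain ⟨V₀, -, g, hxV₀, hg⟩ := CohFinite.exists_gen_le hM (x := x) (U := ⊤) trivial
    obtain ⟨V, hxV, hVV⟩ := ClSubLib.exists_affine_le hxV₀
    have hc : (show Γ(X, V.1) from τ.app V.1 (res M hVV g)) ∈ (I.ideal V).radical :=
      mem_radical_of_forall_notMem V _ fun y hy hyI hu => hI y hyI ((hτ V.1 _ (hg.res hVV) y hy).2 hu)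
    obtain ⟨e, he⟩ := hc
    refine ⟨V, res M hVV g, e * k₀, hxV, hg.res hVV, ?_⟩
    rw [pow_mul, Scheme.IdealSheafData.ideal_pow, Pi.pow_apply]
    exact Ideal.pow_mem_pow he k₀
  choose V g n hxV hg hn using key
  obtain ⟨T, hT⟩ := isCompact_univ.elim_finite_subcover (fun x : X => ((V x).1 : Set X)) (fun x => (V x).1.2)
    (fun x _ => Set.mem_iUnion.2 ⟨x, hxV x⟩)
  refine ⟨∑ x ∈ T, n x, fun k hk => W7Exist.hom_eq_zero_of_affine _ fun W t => ?_⟩
  refine section_eq_of_locally fun x hx => ?_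
  obtain ⟨y, hy, hxy⟩ : ∃ y ∈ T, x ∈ (V y).1 := by simpa using hT (Set.mem_univ x)
  obtain ⟨V', hxV', hle⟩ := ClSubLib.exists_affine_le (show x ∈ W.1 ⊓ (V y).1 from ⟨hx, hxy⟩)
  have h1 : V'.1 ≤ W.1 := hle.trans inf_le_left
  have h2 : V'.1 ≤ (V y).1 := hle.trans inf_le_right
  refine ⟨V'.1, h1, hxV', ?_⟩
  obtain ⟨a, ha⟩ := (TMul.tm_bijective (M := H) (isGen_pw ((hg y).res h2) k) V'.1 le_rfl).2 (res _ h1 t)
  simp only [res_self] at ha
  rw [map_zero, app_res, ← ha]
  show (W7Exist.quotKπ I k₀ hF).app V'.1 (h.app V'.1 ((mulPow H τ k).app V'.1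
    (TMul.tm a (pw (res M h2 (g y)) k)))) = 0
  rw [mulPow_tm, Scheme.Modules.Hom.app_smul, Scheme.Modules.Hom.app_smul]
  refine W7Exist.killedBy_quotK I k₀ hF V' _ ?_ _
  have h3 : resO X h2 ((show Γ(X, (V y).1) from τ.app (V y).1 (g y)) ^ k) ∈ (I ^ k₀).ideal V' := by
    rw [← (I ^ k₀).map_ideal (U := V') (V := V y) h2]
    refine Ideal.mem_map_of_mem _ ?_
    have hny : n y ≤ k := (Finset.single_le_sum (fun z _ => Nat.zero_le (n z)) hy).trans hk
    rw [← Nat.add_sub_cancel' hny, pow_add]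
    exact Ideal.mul_mem_right _ _ (hn y)
  rw [map_pow] at h3
  exact (app_res τ h2 (g y)) ▸ h3

end Groth.Agent.LefDepth
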