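import Groth.Agent.LefRel.Pd
import Groth.Agent.ExtFund.SmoothPn
import Groth.Agent.ExtShX.CodimField

/-!
# Projective dimension from depth plus dimension of closures
-/

set_option autoImplicit false
set_option linter.style.haveILetI false
set_option linter.unusedSectionVars false
set_option backward.isDefEq.respectTransparency false
set_option backward.isDefEq.respectTransparency.types false

universe u

open CategoryTheory CategoryTheory.Limits AlgebraicGeometry Opposite TopologicalSpace

noncomputable section

namespace Groth.Agent.LefDepth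

theorem dim_closure_image {α β : Type*} [TopologicalSpace α] [TopologicalSpace β] {f : α → β}
    (hf : Topology.IsClosedEmbedding f) (x : α) :
    topologicalKrullDim ↥(closure ({f x} : Set β)) = topologicalKrullDim ↥(closure ({x} : Set α)) := by
  have e : closure ({f x} : Set β) = f '' closure ({x} : Set α) := by
    rw [← Set.image_singleton]; exact hf.closure_image_eq _
  rw [e]
  exact (IsHomeomorph.topologicalKrullDim_eq _ (hf.isEmbedding.homeomorphImage (closure {x})).isHomeomorph).symm

variable (N : ℕ) (k : Type u) [Field k] {X : Scheme.{u}} [IsLocallyNoetherian X]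

/-- On projective space over a field, depth plus dimension of the closure bounds the projective dimension. -/
theorem pdLE_push_depth (r : X ⟶ CohB1.ProjSpace N k) [IsClosedImmersion r] (E : X.Modules) (hE : Coh.IsCoh E)
    (x : X) {n R : ℕ} (hR : N ≤ n + 1 + R)
    (hd : (n : WithBot ℕ∞) < (LocCoh.depth (X.presheaf.stalk x) (E.presheaf.stalk x) : WithBot ℕ∞) +
      topologicalKrullDim ↥(closure ({x} : Set X))) :
    SerreReg.PdLE ((CohB1.ProjSpace N k).presheaf.stalk (r x))
      (((Scheme.Modules.pushforward r).obj E).presheaf.stalk (r x)) R := by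
  haveI := CohFinite.isNoetherian_projSpace N k
  haveI : SmoothOfRelativeDimension N (CohB1.ProjSpace.toSpec N k) := ExtFund.smoothOfRelativeDimension_projSpace N
  obtain ⟨a, d, ha, hd', had⟩ := ExtShX.exists_dims_smooth (CohB1.ProjSpace.toSpec N k) N (r x)
  rw [← dim_closure_image r.isClosedEmbedding x, ha] at hd
  haveI := SerrePn.isRegularLocalRing_stalk k N (r x)
  haveI := RegDual.finite_stalk (SerrePn.isCoh_push r hE) (r x)
  refine (FibDepth.pdLE_iff_le_depth _ hd' R _).2 ?_
  rw [SerrePn.depth_push r hE x]
  revert hd
  generalize LocCoh.depth (X.presheaf.stalk x) (E.presheaf.stalk x) = e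
  intro hd
  induction e using WithTop.recTopCoe with
  | top => exact le_top
  | coe m =>
    have h : n < m + a := by
      change ((n : ℕ∞) : WithBot ℕ∞) < ((m : ℕ∞) : WithBot ℕ∞) + ((a : ℕ∞) : WithBot ℕ∞) at hd
      rw [← WithBot.coe_add, WithBot.coe_lt_coe, ← Nat.cast_add, Nat.cast_lt] at hd
      exact hd
    show ((d - R : ℕ) : ℕ∞) ≤ (m : ℕ∞)
    exact_mod_cast (show d - R ≤ m by omega)

end Groth.Agent.LefDepth
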