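import Groth.Agent.LefDepth.Sub
import Groth.Agent.LefDepth.Embed
import Groth.Agent.LefDepth.Mult
import Groth.Agent.LefDepth.Pd
import Groth.Agent.LefRel.Vanish
import Groth.Agent.SymAlg.InvDual
import Groth.Agent.NegTwist.Connected

/-!
# The kernels of the projections to the thickenings are cohomologically negligible
-/

set_option autoImplicit false
set_option linter.style.haveILetI false
set_option linter.unusedSectionVars false
set_option backward.isDefEq.respectTransparency false
set_option backward.isDefEq.respectTransparency.types false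

universe u

open CategoryTheory CategoryTheory.Limits AlgebraicGeometry TopologicalSpace Opposite
open Groth.Agent.QC (res res_res res_self app_res)
open Groth.Agent.W7Hull (st st_germ st_comp st_injective)
open Groth.Agent.CohFinite (tmap)
open Groth.Agent.Nakai (cl_tensor cl_pow cl_one iso_of_cl)
open scoped MonoidalCategory

noncomputable section

namespace Groth.Agent.LefDepth

attribute [local instance] Groth.Agent.Nakai.clMonoid

section

variable {X : Scheme.{u}}

theorem surjective_st_tmap {E E' P : X.Modules} (e : E' ⟶ E) (hP : PicF.IsInvertible P) (x : X)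
    (h : Function.Surjective (st e x)) : Function.Surjective (st (tmap e P) x) := fun z => by
  obtain ⟨W, hxW, s, rfl⟩ := TopCat.Presheaf.exists_germ_eq (CohB1.tensorMod E P).presheaf z
  obtain ⟨V, hV, g, hxV, hg⟩ := CohFinite.exists_gen_le hP hxW
  obtain ⟨a, ha⟩ := (TMul.tm_bijective (M := E) hg V le_rfl).2 (res _ hV s)
  simp only [res_self] at ha
  obtain ⟨w, hw⟩ := h (E.presheaf.germ V x hxV a)
  obtain ⟨W', hxW', b, rfl⟩ := TopCat.Presheaf.exists_germ_eq E'.presheaf w
  rw [st_germ] at hw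
  obtain ⟨V', hxV', iW, iV, he⟩ := TopCat.Presheaf.germ_eq E.presheaf x hxW' hxV _ _ hw
  refine ⟨(CohB1.tensorMod E' P).presheaf.germ V' x hxV' (TMul.tm (res E' iW.le b) (res P iV.le g)), ?_⟩
  rw [st_germ, CohFinite.tmap_tm, ← app_res]
  have h2 : res (CohB1.tensorMod E P) iV.le (res _ hV s) = TMul.tm (res E iW.le (e.app W' b)) (res P iV.le g) := by
    rw [← ha, TMul.res_tm]
    exact congrArg (fun t => TMul.tm t _) he.symm
  rw [← h2, res_res]
  exact TopCat.Presheaf.germ_res_apply (CohB1.tensorMod E P).presheaf _ _ _ _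

@[reassoc]
theorem tmap_congr_right {E E' A B : X.Modules} (e : E' ⟶ E) (φ : A ⟶ B) :
    ((DCoh.tensorBi (X := X)).obj E').map φ ≫ tmap e B = tmap e A ≫ ((DCoh.tensorBi (X := X)).obj E).map φ :=
  TMul.hom_ext fun U a b => by
    show (tmap e B).app U ((((DCoh.tensorBi (X := X)).obj E').map φ).app U (TMul.tm a b)) =
      (((DCoh.tensorBi (X := X)).obj E).map φ).app U ((tmap e A).app U (TMul.tm a b))
    rw [W7Hull.map_tm, CohFinite.tmap_tm, CohFinite.tmap_tm, W7Hull.map_tm]

theorem injective_st_unitE (U : X.Opens) (F : X.Modules) {x : X} (hx : x ∈ U) :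
    Function.Injective (st (Devissage.unitE U F) x) := by
  refine (injective_iff_map_eq_zero _).2 fun z hz => ?_
  obtain ⟨w, rfl⟩ := W7Hull.st_exact_kernel (Devissage.unitE U F) x z hz
  haveI : Subsingleton ((kernel (Devissage.unitE U F)).presheaf.stalk x) :=
    not_not.1 fun h => Devissage.support_kernel_unitE U F h hx
  rw [Subsingleton.elim w 0, map_zero]

end

variable (k : Type u) [Field k] {X : Scheme.{u}} [X.Over (Spec (CommRingCat.of k))]
  [IsProper (X ↘ Spec (CommRingCat.of k))] {L : X.Modules}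

include k in
/-- Below the bound on depth plus dimension off the zero scheme, the transition maps between kernels of
the projections to the thickenings are eventually zero on cohomology. -/
theorem exists_kernel_zero (hL : CohB1.IsAmple L) (σ : Coh.structureModule X ⟶ L) (F : X.Modules)
    (hF : Coh.IsCoh F) (n : ℕ)
    (hd : ∀ x : X, x ∉ ((PicF2.zeroScheme L σ).support : Set X) → (n : WithBot ℕ∞) <
      (LocCoh.depth (X.presheaf.stalk x) (F.presheaf.stalk x) : WithBot ℕ∞) +
        topologicalKrullDim ↥(closure ({x} : Set X)))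
    (i : ℕ) (hi : i ≤ n) (k₀ : ℕ) :
    ∃ K, k₀ ≤ K ∧ ∃ c : kernel.ι (W7Exist.quotKπ (PicF2.zeroScheme L σ) K hF.1) ≫
        W7Exist.quotKπ (PicF2.zeroScheme L σ) k₀ hF.1 = 0,
      ∀ z : Coh.HH X (kernel (W7Exist.quotKπ (PicF2.zeroScheme L σ) K hF.1)) i,
        Sheaf.H.map ((SheafOfModules.toSheaf X.ringCatSheaf).map
          (kernel.lift (W7Exist.quotKπ (PicF2.zeroScheme L σ) k₀ hF.1) _ c)) i z = 0 := by
  haveI : IsLocallyNoetherian X := LocallyOfFiniteType.isLocallyNoetherian (X ↘ Spec (CommRingCat.of k))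
  haveI : CompactSpace X := QuasiCompact.compactSpace_of_compactSpace (X ↘ Spec (CommRingCat.of k))
  haveI : IsNoetherian X := ⟨⟩
  obtain ⟨N, d, r, hN, hd0, hr, hrc, ⟨τ₁⟩, W, hW, hWU⟩ :=
    exists_closedImmersion_chart (X ↘ Spec (CommRingCat.of k)) hL σ (n + 1)
  haveI := hrc
  let U := CohB1.genLocus L σ
  let I := PicF2.zeroScheme L σ
  have hUI : (I.support : Set X) = (U : Set X)ᶜ := NegTwist.coe_support_zeroScheme hL.1 σ
  obtain ⟨H, h, hh, hhq, hH, hbij⟩ := W7Hull.exists_avoid hF.1 (Devissage.isQCoh_pushE hF.1 U)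
    (Devissage.unitE U F) U fun x hx => injective_st_unitE U F hx
  have hHc : Coh.IsCoh H := Groth.Agent.QC.isCoh_of_mono h hF hH
  have hH0 : ∀ (W' : X.Opens) (a : Γ(H, W')),
      (∀ x (hx : x ∈ W'), x ∈ U → H.presheaf.germ W' x hx a = 0) → a = 0 := fun W' a ha => by
    refine Groth.Agent.QC.app_injective_of_mono (h ≫ Devissage.unitE U F) W' ?_
    rw [map_zero]
    refine (Devissage.unitE_eq_zero_iff U F (h.app W' a)).2 fun x hx hxU => ?_
    show F.presheaf.germ W' x hx (h.app W' a) = 0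
    rw [← st_germ, ha x hx hxU, map_zero]
  have hpd : ∀ y ∈ W, SerreReg.PdLE ((CohB1.ProjSpace N k).presheaf.stalk y)
      (((Scheme.Modules.pushforward r).obj H).presheaf.stalk y) (N - (n + 1)) := fun y hy => by
    by_cases hy' : y ∈ Set.range r
    · obtain ⟨x, rfl⟩ := hy'
      have hxU : x ∈ U := hWU.le hy
      refine pdLE_push_depth N k r H hHc x (n := n) (by omega) ?_
      have hx : x ∉ (I.support : Set X) := by rw [hUI]; exact fun hc => hc hxU
      have hdep : LocCoh.depth (X.presheaf.stalk x) (H.presheaf.stalk x) =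
          LocCoh.depth (X.presheaf.stalk x) (F.presheaf.stalk x) :=
        LocH.idealDepth_congr (LinearEquiv.ofBijective (st h x) (hbij x hxU)) _
      rw [hdep]
      exact hd x hx
    · haveI : Subsingleton ↑(((Scheme.Modules.pushforward r).obj H).presheaf.stalk y) :=
        KFlat.subsingleton_stalk_push r H hy'
      haveI := Module.Free.of_subsingleton ((CohB1.ProjSpace N k).presheaf.stalk y)
        (((Scheme.Modules.pushforward r).obj H).presheaf.stalk y)
      exact SerreReg.pdLE_mono (Nat.zero_le _) ((SerreReg.pdLE_zero_iff _).2 Module.Projective.of_free)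
  obtain ⟨E', e, he, hE', hbij', m₀, hm₀⟩ :=
    exists_sub_vanish_closed N k r hr W hW H hHc (N - (n + 1)) hpd i (by omega)
  obtain ⟨M, hM, ⟨eM⟩⟩ := SymAlg.exists_inverse hL.1
  have eM' : CohB1.tensorMod M L ≅ Coh.structureModule X := TMul.commIso _ _ ≪≫ eM
  obtain ⟨τ, hτ⟩ := NegTwist.exists_locus_map hL.1 eM' σ
  obtain ⟨n₁, hn₁⟩ := exists_mulPow_quotK hM hτ I (fun x hx hxU => by rw [hUI] at hx; exact hx hxU) hF.1 h k₀
  let m := m₀ + n₁
  let p := d * m
  have hp : n₁ ≤ p := le_trans (Nat.le_add_left n₁ m₀) (Nat.le_mul_of_pos_left m hd0)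
  have hMp : PicF.IsInvertible (CohB1.tensorPow M p) := TMul.isInvertible_tensorPow hM p
  obtain ⟨φ⟩ : Nonempty ((Scheme.Modules.pullback r).obj (LefRel.O N k (-(m : ℤ))) ≅ CohB1.tensorPow M p) := by
    let c : ℤ → _ := fun a => PicF.cl ((Scheme.Modules.pullback r).obj (LefRel.O N k a))
    have hc : ∀ a b : ℤ, c a * c b = c (a + b) := fun a b => by
      obtain ⟨θ⟩ := LefRel.exists_theta N k a b _ rfl
      obtain ⟨π⟩ := TMul.nonempty_pullTensorIso r (LefRel.O N k a) (LefRel.O N k b)
      rw [← cl_tensor]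
      exact (PicGrp.cl_eq_cl_iff _ _).2 ⟨π ≪≫ (Scheme.Modules.pullback r).mapIso θ⟩
    have hc0 : c 0 = 1 := by
      obtain ⟨θ⟩ := GrT.nonempty_twist_zero_iso (𝒜 := CohB1.polyGrading N k)
      rw [← cl_one]
      exact (PicGrp.cl_eq_cl_iff _ _).2 ⟨(Scheme.Modules.pullback r).mapIso θ ≪≫ DerPerf.pullUnitIso r⟩
    have hc1 : c 1 = PicF.cl L ^ d := by
      rw [← cl_pow]; exact (PicGrp.cl_eq_cl_iff _ _).2 ⟨τ₁⟩
    have hcq : ∀ q : ℕ, c q = PicF.cl L ^ (d * q) := by
      intro q
      induction q with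
      | zero => simpa using hc0
      | succ q ih => rw [Nat.cast_succ, ← hc, ih, hc1, ← pow_add]; rfl
    have h1 : PicF.cl M * PicF.cl L = 1 := by
      rw [← cl_tensor, ← cl_one]
      exact (PicGrp.cl_eq_cl_iff _ _).2 ⟨eM'⟩
    have h3 : c (m : ℤ) * c (-(m : ℤ)) = 1 := by rw [hc, add_neg_cancel, hc0]
    refine iso_of_cl ?_
    rw [hcq] at h3
    have h5 : PicF.cl M ^ p * PicF.cl L ^ p = 1 := by rw [← mul_pow, h1, one_pow]
    rw [cl_pow]
    exact (left_inv_eq_right_inv h5 h3).symm
  let P := CohB1.tensorPow M p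
  let Φ := tmap e P ≫ mulPow H τ p ≫ h
  haveI : Mono (tmap e P) := (Groth.Agent.QC.mono_iff_app_injective _).2
    (CohFinite.tmap_eq_zero_locally hMp e fun V => Groth.Agent.QC.app_injective_of_mono e V)
  haveI := mono_mulPow hM hτ H hH0 p
  haveI := hh
  haveI : Mono Φ := mono_comp _ _
  have hQc : Coh.IsCoh (cokernel Φ) := Groth.Agent.QC.isCoh_of_epi hF
    (Groth.Agent.QC.isQCoh_cokernel (CohFinite.isCoh_tensor hE' hMp).1 hF.1 Φ) (cokernel.π Φ)
  obtain ⟨k₁, hk₁⟩ := exists_killed I hQc fun x hx => by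
    have hxU : x ∈ U := by rw [hUI] at hx; exact not_not.1 hx
    refine not_not.1 (Devissage.notMem_support_of_surjective (ShortComplex.mk Φ (cokernel.π Φ) (cokernel.condition Φ))
      { exact := ShortComplex.exact_cokernel Φ, mono_f := inferInstance, epi_g := inferInstance } x ?_)
    show Function.Surjective (st Φ x)
    rw [show ⇑(st Φ x) = ⇑(st h x) ∘ ⇑(st (mulPow H τ p) x) ∘ ⇑(st (tmap e P) x) from
      funext fun v => (st_comp _ _ _ v).trans (st_comp _ _ _ _)]
    exact (hbij x hxU).2.comp ((surjective_st_mulPow hM hτ H p hxU).comp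
      (surjective_st_tmap e hMp x (hbij' x (hWU.ge hxU)).2))
  let K := max k₀ k₁
  obtain ⟨ψ, hψ⟩ := W7Exist.exists_desc_quotK I K hF.1 (cokernel.π Φ) (hk₁ K (le_max_right _ _))
  let ι₁ := kernel.ι (W7Exist.quotKπ I K hF.1)
  have hι : ι₁ ≫ cokernel.π Φ = 0 := by rw [← hψ, kernel.condition_assoc, zero_comp]
  let g := Abelian.monoLift Φ ι₁ hι
  have hg : g ≫ Φ = ι₁ := Abelian.monoLift_comp _ _ _
  let ψ' := kernel.lift (W7Exist.quotKπ I k₀ hF.1) (mulPow H τ p ≫ h) (hn₁ p hp)
  have c : ι₁ ≫ W7Exist.quotKπ I k₀ hF.1 = 0 := by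
    rw [← hg]
    simp only [Φ, Category.assoc]
    rw [← Category.assoc (mulPow H τ p) h, hn₁ p hp, comp_zero, comp_zero]
  refine ⟨K, le_max_left _ _, c, fun z => ?_⟩
  have heq : kernel.lift (W7Exist.quotKπ I k₀ hF.1) ι₁ c =
      (g ≫ ((DCoh.tensorBi (X := X)).obj E').map φ.inv) ≫
        tmap e ((Scheme.Modules.pullback r).obj (LefRel.O N k (-(m : ℤ)))) ≫
        ((DCoh.tensorBi (X := X)).obj H).map φ.hom ≫ ψ' := by
    rw [← tmap_congr_right_assoc e φ.hom, Category.assoc, ← Functor.map_comp_assoc, φ.inv_hom_id,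
      CategoryTheory.Functor.map_id, Category.id_comp, ← cancel_mono (kernel.ι _), kernel.lift_ι]
    simp only [Category.assoc, ψ', kernel.lift_ι]
    exact hg.symm
  rw [heq, hh_map_comp, hh_map_comp]
  exact (congrArg _ (hm₀ m (Nat.le_add_right m₀ n₁) _)).trans (map_zero _)

end Groth.Agent.LefDepth
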