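import Groth.Agent.LefDepth.SubVanish
import Groth.Agent.DualPush.Basic
import Groth.Agent.SerrePn.ClosedTwist
import Groth.Agent.SerrePn.ClosedDepth
import Groth.Agent.W7Exist.QuotK
import Groth.Agent.SupportLib.Unit
import Groth.Agent.KFlat.ClosedImm
import Groth.Agent.K0Hom.KGen

/-!
# Vanishing on submodules, on closed subschemes of projective space
-/

set_option autoImplicit false
set_option linter.style.haveILetI false
set_option linter.unusedSectionVars false
set_option backward.isDefEq.respectTransparency false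
set_option backward.isDefEq.respectTransparency.types false

universe u

open CategoryTheory CategoryTheory.Limits AlgebraicGeometry Opposite
open Groth.Agent.W7Hull (st st_comp st_injective)
open Groth.Agent.CohFinite (tmap)

noncomputable section

namespace Groth.Agent.LefDepth

section

variable {X Y : Scheme.{u}}

theorem tmap_commHom {M M' : Y.Modules} (φ : M ⟶ M') (L : Y.Modules) :
    tmap φ L ≫ TMul.commHom M' L = TMul.commHom M L ≫ S0927.tmap L φ :=
  TMul.hom_ext fun U a b => by
    show (TMul.commHom M' L).app U ((tmap φ L).app U (TMul.tm a b)) =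
      (S0927.tmap L φ).app U ((TMul.commHom M L).app U (TMul.tm a b))
    rw [CohFinite.tmap_tm, TMul.commHom_tm, TMul.commHom_tm, S0927.tmap_tm]

/-- The projection formula, naturally. -/
theorem exists_pushTwist_natural (r : X ⟶ Y) {L : Y.Modules} (hL : PicF.IsInvertible L) :
    ∃ α : ∀ E : X.Modules, CohB1.tensorMod ((Scheme.Modules.pushforward r).obj E) L ≅
        (Scheme.Modules.pushforward r).obj (CohB1.tensorMod E ((Scheme.Modules.pullback r).obj L)),
      ∀ (E F : X.Modules) (φ : E ⟶ F), tmap ((Scheme.Modules.pushforward r).map φ) L ≫ (α F).hom =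
        (α E).hom ≫ (Scheme.Modules.pushforward r).map (tmap φ ((Scheme.Modules.pullback r).obj L)) := by
  let π := S0927.projIso r L (ResDesc.isFinLocFree_of_isInvertible hL)
  refine ⟨fun E => TMul.commIso _ _ ≪≫ π.app E ≪≫ (Scheme.Modules.pushforward r).mapIso (TMul.commIso _ _),
    fun E F φ => ?_⟩
  show tmap ((Scheme.Modules.pushforward r).map φ) L ≫ TMul.commHom _ _ ≫ π.hom.app F ≫
      (Scheme.Modules.pushforward r).map (TMul.commHom _ _) =
    (TMul.commHom _ _ ≫ π.hom.app E ≫ (Scheme.Modules.pushforward r).map (TMul.commHom _ _)) ≫ _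
  have h1 := π.hom.naturality φ
  simp only [Functor.comp_map] at h1
  have h3 : S0927.tmap ((Scheme.Modules.pullback r).obj L) φ ≫ TMul.commHom _ _ =
      TMul.commHom _ _ ≫ tmap φ ((Scheme.Modules.pullback r).obj L) :=
    TMul.hom_ext fun U a b => by
      show (TMul.commHom _ F).app U ((S0927.tmap _ φ).app U (TMul.tm a b)) =
        (tmap φ _).app U ((TMul.commHom _ E).app U (TMul.tm a b))
      rw [S0927.tmap_tm, TMul.commHom_tm, TMul.commHom_tm, CohFinite.tmap_tm]
  rw [← Category.assoc, tmap_commHom]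
  simp only [Category.assoc]
  rw [← Functor.map_comp, ← h3, Functor.map_comp]
  exact congrArg (TMul.commHom _ _ ≫ ·) ((Category.assoc _ _ _).symm.trans
    ((congrArg (· ≫ _) h1).trans (Category.assoc _ _ _)))

/-- A submodule of a direct image along a closed immersion is a direct image. -/
theorem exists_sub_push (r : X ⟶ Y) [IsClosedImmersion r] {E : X.Modules} {G' : Y.Modules}
    (ι : G' ⟶ (Scheme.Modules.pushforward r).obj E) [Mono ι] :
    ∃ (E' : X.Modules) (e : E' ⟶ E) (a : (Scheme.Modules.pushforward r).obj E' ⟶ G'),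
      Mono e ∧ IsIso a ∧ a ≫ ι = (Scheme.Modules.pushforward r).map e := by
  let adj := Scheme.Modules.pullbackPushforwardAdjunction r
  have hk : ∀ (U : Y.affineOpens) (a : Γ(Y, U.1)), a ∈ r.ker.ideal U →
      ∀ s : Γ(G', U.1), a • s = 0 := by
    intro U a ha s
    have hE := (SupportLib.isIso_unit_iff r ((Scheme.Modules.pushforward r).obj E)).1
      (by
        haveI : IsIso (adj.counit.app E) := K0Hom.isIso_counit_pre r E
        haveI : IsIso ((Scheme.Modules.pushforward r).map (adj.counit.app E)) := inferInstance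
        exact IsIso.of_isIso_fac_right (adj.right_triangle_components E)) U a ha (ι.app U.1 s)
    refine Groth.Agent.QC.app_injective_of_mono ι U.1 ?_
    rw [map_zero, Scheme.Modules.Hom.app_smul]
    exact hE
  haveI := (SupportLib.isIso_unit_iff r G').2 hk
  let e : (Scheme.Modules.pullback r).obj G' ⟶ E := (adj.homEquiv _ _).symm ι
  have he : adj.unit.app G' ≫ (Scheme.Modules.pushforward r).map e = ι := by
    exact (adj.homEquiv_unit _ _ _).symm.trans ((adj.homEquiv _ _).apply_symm_apply ι)
  refine ⟨_, e, inv (adj.unit.app G'), ?_, inferInstance, by rw [IsIso.inv_comp_eq, he]⟩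
  have : Mono ((Scheme.Modules.pushforward r).map e) := by
    rw [show (Scheme.Modules.pushforward r).map e = inv (adj.unit.app G') ≫ ι by rw [IsIso.eq_inv_comp, he]]
    infer_instance
  exact ⟨fun g h hgh => sub_eq_zero.1 (SerrePn.eq_zero_of_push r (g - h) ((cancel_mono
    ((Scheme.Modules.pushforward r).map e)).1 (by
      rw [← Functor.map_comp, Preadditive.sub_comp, hgh, sub_self, zero_comp]
      exact (Scheme.Modules.pushforward r).map_zero _ _)))⟩

theorem bijective_st_of_push (r : X ⟶ Y) [IsClosedImmersion r] {A B : X.Modules} (g : A ⟶ B) (x : X)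
    (h : Function.Bijective (st ((Scheme.Modules.pushforward r).map g) (r x))) : Function.Bijective (st g x) := by
  refine (Function.Bijective.of_comp_iff (st g x) (KFlat.pushStalk_bijective r x A)).1 ?_
  rw [show ⇑(st g x) ∘ ⇑(KFlat.pushStalk r x A) =
      ⇑(KFlat.pushStalk r x B) ∘ ⇑(st ((Scheme.Modules.pushforward r).map g) (r x)) from
    funext fun m => (KFlat.pushStalk_natural r x g m).symm]
  exact (KFlat.pushStalk_bijective r x B).comp h

end

variable (N : ℕ) (A : Type u) [CommRing A] [IsNoetherianRing A] {X : Scheme.{u}}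
  [X.Over (Spec (CommRingCat.of A))] (r : X ⟶ CohB1.ProjSpace N A) [IsClosedImmersion r]

/-- Submodules equal over an affine open with twisted cohomology mapping to zero, on a closed subscheme. -/
theorem exists_sub_vanish_closed (hr : r ≫ CohB1.ProjSpace.toSpec N A = X ↘ Spec (CommRingCat.of A))
    (W : (CohB1.ProjSpace N A).Opens) (hW : IsAffineOpen W) (E : X.Modules) (hE : Coh.IsCoh E) (R : ℕ)
    (hpd : ∀ y ∈ W, SerreReg.PdLE ((CohB1.ProjSpace N A).presheaf.stalk y)
      (((Scheme.Modules.pushforward r).obj E).presheaf.stalk y) R) (i : ℕ) (hi : i + R < N) :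
    ∃ (E' : X.Modules) (e : E' ⟶ E), Mono e ∧ Coh.IsCoh E' ∧ (∀ x : X, r x ∈ W → Function.Bijective (st e x)) ∧
      ∃ m₀ : ℕ, ∀ m : ℕ, m₀ ≤ m → ∀ z : Coh.HH X (CohB1.tensorMod E'
          ((Scheme.Modules.pullback r).obj (LefRel.O N A (-(m : ℤ))))) i,
        Sheaf.H.map ((SheafOfModules.toSheaf X.ringCatSheaf).map
          (tmap e ((Scheme.Modules.pullback r).obj (LefRel.O N A (-(m : ℤ)))))) i z = 0 := by
  haveI := CohFinite.isNoetherian_projSpace N A
  haveI : IsLocallyNoetherian X := LocallyOfFiniteType.isLocallyNoetherian r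
  letI : (CohB1.ProjSpace N A).Over (Spec (CommRingCat.of A)) := ⟨CohB1.ProjSpace.toSpec N A⟩
  obtain ⟨G', ι, hι, hG', hbij, m₀, hm₀⟩ := exists_sub_vanish N A W hW R _ (SerrePn.isCoh_push r hE) hpd i hi
  obtain ⟨E', e, a, he, ha, hae⟩ := exists_sub_push r ι
  have hE' : Coh.IsCoh E' := by
    refine Groth.Agent.QC.isCoh_of_mono e hE ?_
    have h1 : Coh.IsCoh ((Scheme.Modules.pushforward r).obj E') := K0Coh.isCoh_of_iso (asIso a).symm hG'
    haveI := K0Hom.isIso_counit_pre r E'
    exact QC.isQCoh_of_iso (asIso ((Scheme.Modules.pullbackPushforwardAdjunction r).counit.app E'))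
      (Groth.Agent.QC.isCoh_pullback r h1).1
  refine ⟨E', e, he, hE', fun x hx => bijective_st_of_push r e x ?_, m₀, fun m hm z => ?_⟩
  · rw [← hae, show ⇑(st (a ≫ ι) (r x)) = ⇑(st ι (r x)) ∘ ⇑(st a (r x)) from funext fun v => st_comp _ _ _ v]
    exact (hbij _ hx).comp (W7Hull.bijective_of_isIso a _)
  · have hL : PicF.IsInvertible (LefRel.O N A (-(m : ℤ))) := CohFinite.isInvertible_twist N A _
    obtain ⟨α, hα⟩ := exists_pushTwist_natural r hL
    obtain ⟨b, hb⟩ := DualPush.exists_pushEquiv A r hr i
    have hq : ∀ {F : X.Modules}, Coh.IsCoh F →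
        Coh.IsQCoh (CohB1.tensorMod F ((Scheme.Modules.pullback r).obj (LefRel.O N A (-(m : ℤ))))) := fun hF =>
      (CohFinite.isCoh_tensor hF (PicLoc.isInvertible_pullback r hL)).1
    refine (b _ (hq hE)).injective ?_
    rw [map_zero, hb _ _ (hq hE') (hq hE)]
    obtain ⟨w, hw⟩ : ∃ w, Sheaf.H.map ((SheafOfModules.toSheaf (CohB1.ProjSpace N A).ringCatSheaf).map (α E').hom) i w =
        b _ (hq hE') z := by
      refine ⟨Sheaf.H.map ((SheafOfModules.toSheaf (CohB1.ProjSpace N A).ringCatSheaf).map (α E').inv) i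
        (b _ (hq hE') z), ?_⟩
      rw [← hh_map_comp, Iso.inv_hom_id]
      erw [CategoryTheory.Functor.map_id]
      exact Sheaf.H.map_id_apply _
    show Sheaf.H.map ((SheafOfModules.toSheaf (CohB1.ProjSpace N A).ringCatSheaf).map
      ((Scheme.Modules.pushforward r).map (tmap e _))) i (b _ (hq hE') z) = 0
    rw [← hw, ← hh_map_comp, ← hα E' E e, ← hae, CohFinite.tmap_comp, Category.assoc, hh_map_comp, hh_map_comp,
      hm₀ m hm, map_zero]

end Groth.Agent.LefDepth
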