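import Groth.Agent.LefRel.VanishP
import Groth.Agent.W7Hull.Avoid
import Groth.Agent.RefStalk.Extend
import Groth.Agent.SerrePn.SheafHomExt
import Groth.Agent.ExtShX.HomTilde
import Groth.Agent.ExtShX.AffineTilde
import Groth.Agent.CohFinite.Sequence

/-!
# Vanishing on submodules agreeing over an affine open
-/

set_option autoImplicit false
set_option linter.style.haveILetI false
set_option linter.unusedSectionVars false
set_option backward.isDefEq.respectTransparency false
set_option backward.isDefEq.respectTransparency.types false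

universe u

open CategoryTheory CategoryTheory.Limits AlgebraicGeometry Opposite Abelian
open Groth.Agent.W7Hull (st st_comp st_id st_zero st_injective bijective_of_isIso_restrict restrict_stalk_bijective_iff
  exists_avoid exists_extend_hom)
open Groth.Agent.CohFinite (tmap tmap_comp tmap_zero δH δH_natural δH_eq_zero_iff shortExact_tmap shortExact_toAb)

noncomputable section

namespace Groth.Agent.LefDepth

attribute [local instance] Abelian.hasFiniteBiproducts

/-- An epimorphism onto a locally free module splits over an affine scheme. -/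
theorem exists_section {W : Scheme.{u}} [IsAffine W] [IsLocallyNoetherian W] {T D : W.Modules}
    (hT : Coh.IsQCoh T) (hD : FlatMod.IsFinLocFree D) (p : T ⟶ D) [Epi p] :
    ∃ σ : D ⟶ T, σ ≫ p = 𝟙 D := by
  letI : W.Over (Spec (CommRingCat.of Γ(W, ⊤))) := ⟨W.toSpecΓ⟩
  haveI := SerrePn.enoughInjectives (X := W)
  haveI : HasExt.{u} W.Modules := hasExt_of_enoughInjectives _
  have hK : Coh.IsQCoh (kernel p) := Groth.Agent.QC.isQCoh_kernel hT (LocFree.isQCoh_of_isFinLocFree hD) p
  have hS : (ShortComplex.mk (kernel.ι p) p (kernel.condition p)).ShortExact :=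
    { exact := ShortComplex.exact_of_f_is_kernel _ (kernelIsKernel p) }
  obtain ⟨e⟩ := SerrePn.ext_equiv_hh Γ(W, ⊤) D hD 1 (kernel p)
  haveI := ExtShX.subsingleton_hh_qcoh ((DCoh.sheafHom D).obj (kernel p))
    (ExtShX.isQCoh_sheafHom_locFree hD hK) 0
  haveI : Subsingleton (Ext D (kernel p) 1) := e.toEquiv.subsingleton
  obtain ⟨x, hx⟩ := Ext.covariant_sequence_exact₃ D hS (Ext.mk₀ (𝟙 D)) (zero_add 1) (Subsingleton.elim _ _)
  obtain ⟨σ, rfl⟩ := (Ext.mk₀_bijective _ _).2 x
  exact ⟨σ, (Ext.mk₀_bijective _ _).1 ((Ext.mk₀_comp_mk₀ _ _).symm.trans hx)⟩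

variable (N : ℕ) (A : Type u) [CommRing A] [IsNoetherianRing A]

local notation "P" => CohB1.ProjSpace N A
local notation "Ot" => LefRel.O N A

theorem hh_map_comp {X : Scheme.{u}} {F G K : X.Modules} (f : F ⟶ G) (g : G ⟶ K) (i : ℕ) (x : Coh.HH X F i) :
    Sheaf.H.map ((SheafOfModules.toSheaf X.ringCatSheaf).map (f ≫ g)) i x =
      Sheaf.H.map ((SheafOfModules.toSheaf X.ringCatSheaf).map g) i
        (Sheaf.H.map ((SheafOfModules.toSheaf X.ringCatSheaf).map f) i x) := by
  rw [Functor.map_comp]
  exact Sheaf.H.map_comp_apply _ _ x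

theorem hh_map_zero_of_subsingleton {X : Scheme.{u}} {F G : X.Modules} (f : F ⟶ G) (i : ℕ)
    [Subsingleton (Coh.HH X F i)] (x : Coh.HH X F i) :
    Sheaf.H.map ((SheafOfModules.toSheaf X.ringCatSheaf).map f) i x = 0 :=
  (congrArg _ (Subsingleton.elim x 0)).trans (map_zero _)

/-- If the stalks over an affine open have projective dimension at most `r`, some submodule equal there
has twisted cohomology mapping to zero below `N - r`. -/
theorem exists_sub_vanish (W : (CohB1.ProjSpace N A).Opens) (hW : IsAffineOpen W) :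
    ∀ (r : ℕ) (G : (CohB1.ProjSpace N A).Modules), Coh.IsCoh G →
    (∀ x ∈ W, SerreReg.PdLE ((CohB1.ProjSpace N A).presheaf.stalk x) (G.presheaf.stalk x) r) →
    ∀ i, i + r < N → ∃ (G' : (CohB1.ProjSpace N A).Modules) (ι : G' ⟶ G), Mono ι ∧ Coh.IsCoh G' ∧
      (∀ x ∈ W, Function.Bijective (st ι x)) ∧ ∃ m₀ : ℕ, ∀ m : ℕ, m₀ ≤ m →
        ∀ y : Coh.HH P (CohB1.tensorMod G' (Ot (-(m : ℤ)))) i,
          Sheaf.H.map ((SheafOfModules.toSheaf (CohB1.ProjSpace N A).ringCatSheaf).map
            (tmap ι (Ot (-(m : ℤ))))) i y = 0 := by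
  haveI := CohFinite.isNoetherian_projSpace N A
  intro r
  induction r with
  | zero =>
    intro G hG hpd i hi
    obtain ⟨M, l, p, hp⟩ := LefRel.exists_cover N A G hG
    let T : Fin l → (CohB1.ProjSpace N A).Modules := fun _ => Ot (-(M : ℤ))
    have hT : Coh.IsCoh (⨁ T) := Devissage.isCoh_biproduct _ fun _ => CohFinite.isCoh_twist N A _
    let R := Scheme.Modules.restrictFunctor W.ι
    have hD : FlatMod.IsFinLocFree (R.obj G) := (RefStalk.isFinLocFree_restrict_iff hG W).2 fun x hx => by
      haveI := RegDual.finite_stalk hG x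
      haveI := (SerreReg.pdLE_zero_iff _).1 (hpd x hx)
      exact Module.free_of_flat_of_isLocalRing
    haveI : IsAffine (W : Scheme.{u}) := hW
    haveI : Epi (R.map p) := by
      haveI := (Scheme.Modules.restrictAdjunction W.ι).isLeftAdjoint
      exact Functor.map_epi _ _
    obtain ⟨σ, hσ⟩ := exists_section (Groth.Agent.QC.isQCoh_restrict W.ι hT.1) hD (R.map p)
    obtain ⟨F', ι, φ', hι, hF', hiso, hφ⟩ := exists_extend_hom hG.1 hT.1 W σ
    have hF'c : Coh.IsCoh F' := Groth.Agent.QC.isCoh_of_mono ι hG hF'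
    let d : F' ⟶ G := φ' ≫ p - ι
    have hd : R.map d = 0 := by
      haveI : R.Additive := (Scheme.Modules.restrictAdjunction W.ι).left_adjoint_additive
      rw [R.map_sub, R.map_comp, hφ, Category.assoc, hσ, Category.comp_id, sub_self]
    have hker : IsIso (R.map (kernel.ι d)) := by
      haveI : R.Additive := (Scheme.Modules.restrictAdjunction W.ι).left_adjoint_additive
      haveI : PreservesFiniteLimits R := Groth.Agent.QC.preservesFiniteLimits_of_preservesMono _
      haveI : IsIso (kernel.ι (R.map d)) :=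
        ⟨kernel.lift _ (𝟙 _) (by rw [hd, comp_zero]), by rw [← cancel_mono (kernel.ι (R.map d)), Category.assoc,
          kernel.lift_ι, Category.comp_id, Category.id_comp], kernel.lift_ι _ _ _⟩
      rw [← kernelComparison_comp_ι d R]
      infer_instance
    refine ⟨kernel d, kernel.ι d ≫ ι, mono_comp _ _, Groth.Agent.QC.isCoh_kernel hF'c hG.1 d, fun x hx => ?_,
      M + 1, fun m hm y => ?_⟩
    · have h1 := bijective_of_isIso_restrict (kernel.ι d) W hx
      have h2 := bijective_of_isIso_restrict ι W hx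
      rw [show ⇑(st (kernel.ι d ≫ ι) x) = ⇑(st ι x) ∘ ⇑(st (kernel.ι d) x) from funext fun z => st_comp _ _ _ z]
      exact h2.comp h1
    · have hfac : kernel.ι d ≫ ι = (kernel.ι d ≫ φ') ≫ p := by
        rw [Category.assoc]
        refine (sub_eq_zero.1 ?_).symm
        rw [← Preadditive.comp_sub]
        exact kernel.condition d
      haveI : Subsingleton (Coh.HH P (CohB1.tensorMod (⨁ T) (Ot (-(m : ℤ)))) i) := by
        refine CohFinite.subsingleton_of_split _ (fun _ : Fin l => CohB1.tensorMod (Ot (-(M : ℤ))) (Ot (-(m : ℤ))))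
          (fun j => tmap (biproduct.ι T j) _) (fun j => tmap (biproduct.π T j) _) ?_ i fun j => ?_
        · simp only [← tmap_comp]
          exact (CohFinite.tmap_sum _ _ _).symm.trans
            ((congrArg (fun ψ => tmap ψ _) biproduct.total).trans (CohFinite.tmap_id _ _))
        · obtain ⟨e⟩ := LefRel.exists_theta N A (-(M : ℤ)) (-(m : ℤ)) _ rfl
          exact CohQC.hh_subsingleton_of_iso e.symm i (ProjCech.twist_vanish N _ i (by omega) (by omega))
      rw [hfac, tmap_comp, hh_map_comp, Subsingleton.elim (α := Coh.HH P (CohB1.tensorMod (⨁ T) (Ot (-(m : ℤ)))) i)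
        (Sheaf.H.map _ i y) 0]
      exact map_zero _
  | succ r ih =>
    intro G hG hpd i hi
    obtain ⟨M, l, p, hp⟩ := LefRel.exists_cover N A G hG
    let T : Fin l → (CohB1.ProjSpace N A).Modules := fun _ => Ot (-(M : ℤ))
    have hT : Coh.IsCoh (⨁ T) := Devissage.isCoh_biproduct _ fun _ => CohFinite.isCoh_twist N A _
    have hTl := LefRel.isFinLocFree_twists N A l M
    obtain ⟨K', κ, hκ, hK', hκW, m₁, hm₁⟩ := ih (kernel p) (Groth.Agent.QC.isCoh_kernel hT hG.1 p)
      (fun x hx => (LefRel.pdLE_kernel_iff N A p hTl x r).1 (hpd x hx)) (i + 1) (by omega)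
    let j : K' ⟶ ⨁ T := κ ≫ kernel.ι p
    have hj : j ≫ p = 0 := by rw [Category.assoc, kernel.condition, comp_zero]
    let q : cokernel j ⟶ G := cokernel.desc j p hj
    have hq : ∀ x ∈ W, Function.Injective (st q x) := fun x hx => by
      refine (injective_iff_map_eq_zero _).2 fun z hz => ?_
      obtain ⟨t, rfl⟩ := ((ModuleCat.epi_iff_surjective _).1
        (inferInstance : Epi ((DerSch.stalkFunctor (CohB1.ProjSpace N A) x).map (cokernel.π j)))) z
      have h1 : st p x t = 0 := by
        rw [← cokernel.π_desc j p hj, st_comp]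
        exact hz
      obtain ⟨k, hk⟩ := W7Hull.st_exact_kernel p x t h1
      obtain ⟨k', rfl⟩ := (hκW x hx).2 k
      rw [← hk, ← st_comp]
      show st (cokernel.π j) x (st j x k') = 0
      rw [← st_comp, cokernel.condition, st_zero]
    obtain ⟨H, h, hh, hhq, hH, hHW⟩ := exists_avoid (Groth.Agent.QC.isQCoh_cokernel hK'.1 hT.1 j) hG.1 q W hq
    let π := cokernel.π j
    let s := pullback.snd π h
    let f := pullback.fst π h
    have hsf : (kernel.ι s ≫ f) ≫ π = 0 := by
      rw [Category.assoc, pullback.condition, ← Category.assoc, kernel.condition, zero_comp]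
    have hS₁ : (ShortComplex.mk (kernel.ι s) s (kernel.condition s)).ShortExact :=
      { exact := ShortComplex.exact_of_f_is_kernel _ (kernelIsKernel s)
        epi_g := inferInstanceAs (Epi (pullback.snd π h)) }
    have hS : (ShortComplex.mk (kernel.ι p) p (kernel.condition p)).ShortExact :=
      { exact := ShortComplex.exact_of_f_is_kernel _ (kernelIsKernel p) }
    haveI : Mono j := mono_comp _ _
    let τ : kernel s ⟶ K' := Abelian.monoLift j (kernel.ι s ≫ f) hsf
    haveI := hhq
    refine ⟨H, h ≫ q, hhq, Groth.Agent.QC.isCoh_of_mono (h ≫ q) hG hH, fun x hx => ?_, max m₁ (M + 1),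
      fun m hm y => ?_⟩
    · refine ⟨st_injective _ x, fun v => ?_⟩
      obtain ⟨t, ht⟩ := ((ModuleCat.epi_iff_surjective _).1
        (inferInstance : Epi ((DerSch.stalkFunctor (CohB1.ProjSpace N A) x).map p))) v
      obtain ⟨w, hw⟩ := (hHW x hx).2 (st π x t)
      refine ⟨w, ?_⟩
      rw [st_comp, hw, ← st_comp, cokernel.π_desc]
      exact ht
    · have hT₀ : ∀ j' : ℕ, j' < N → Subsingleton (Coh.HH P (CohB1.tensorMod (⨁ T) (Ot (-(m : ℤ)))) j') := by
        intro j' hj'
        refine CohFinite.subsingleton_of_split _ (fun _ : Fin l => CohB1.tensorMod (Ot (-(M : ℤ))) (Ot (-(m : ℤ))))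
          (fun a => tmap (biproduct.ι T a) _) (fun a => tmap (biproduct.π T a) _) ?_ j' fun a => ?_
        · simp only [← tmap_comp]
          exact (CohFinite.tmap_sum _ _ _).symm.trans
            ((congrArg (fun ψ => tmap ψ _) biproduct.total).trans (CohFinite.tmap_id _ _))
        · obtain ⟨e⟩ := LefRel.exists_theta N A (-(M : ℤ)) (-(m : ℤ)) _ rfl
          exact CohQC.hh_subsingleton_of_iso e.symm j' (ProjCech.twist_vanish N _ j' (by omega) (by omega))
      let L := Ot (-(m : ℤ))
      have hL : PicF.IsInvertible L := CohFinite.isInvertible_twist N A _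
      have c₁ : (τ ≫ κ) ≫ kernel.ι p = kernel.ι s ≫ f := by
        rw [Category.assoc]
        exact Abelian.monoLift_comp j _ hsf
      have c₂ : f ≫ p = s ≫ h ≫ q := by
        rw [← cokernel.π_desc j p hj, ← Category.assoc, pullback.condition, Category.assoc]
      let Φ : (SheafOfModules.toSheaf (CohB1.ProjSpace N A).ringCatSheaf).mapShortComplex.obj
          (ShortComplex.mk (tmap (kernel.ι s) L) (tmap s L) (by rw [← tmap_comp, kernel.condition, tmap_zero])) ⟶
          (SheafOfModules.toSheaf (CohB1.ProjSpace N A).ringCatSheaf).mapShortComplex.obj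
          (ShortComplex.mk (tmap (kernel.ι p) L) (tmap p L) (by rw [← tmap_comp, kernel.condition, tmap_zero])) :=
        (SheafOfModules.toSheaf (CohB1.ProjSpace N A).ringCatSheaf).mapShortComplex.map
          { τ₁ := tmap (τ ≫ κ) L, τ₂ := tmap f L, τ₃ := tmap (h ≫ q) L
            comm₁₂ := by show tmap (τ ≫ κ) L ≫ tmap (kernel.ι p) L = _; rw [← tmap_comp, ← tmap_comp, c₁]
            comm₂₃ := by show tmap f L ≫ tmap p L = _; rw [← tmap_comp, ← tmap_comp, c₂] }
      have e₁ := (shortExact_tmap hL hS₁).map_of_exact (SheafOfModules.toSheaf (CohB1.ProjSpace N A).ringCatSheaf)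
      have e₂ := (shortExact_tmap hL hS).map_of_exact (SheafOfModules.toSheaf (CohB1.ProjSpace N A).ringCatSheaf)
      have hn := δH_natural e₁ e₂ Φ i y
      have hzero : Sheaf.H.map Φ.τ₁ (i + 1) (δH e₁ i y) = 0 := by
        show Sheaf.H.map ((SheafOfModules.toSheaf (CohB1.ProjSpace N A).ringCatSheaf).map (tmap (τ ≫ κ) L)) (i + 1)
          (δH e₁ i y) = 0
        rw [tmap_comp, hh_map_comp]
        exact hm₁ m (le_trans (le_max_left _ _) hm) _
      replace hn := hn.trans hzero
      obtain ⟨z, hz⟩ := (δH_eq_zero_iff e₂ i _).1 hn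
      haveI := hT₀ i (by omega)
      refine hz.symm.trans ?_
      exact (congrArg _ (Subsingleton.elim (α := Coh.HH P (CohB1.tensorMod (⨁ T) L) i) z 0)).trans (map_zero _)

end Groth.Agent.LefDepth
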